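import Groth.Agent.DiagRig.EtConj
import Groth.Agent.DiagRig.SubDescent
import Groth.Agent.DiagRig.DSQuot
import Mathlib.AlgebraicGeometry.Morphisms.UniversallyOpen

/-!
# Families of homomorphisms out of a group of multiplicative type over a connected base

A family conjugate to a constant one at one point is conjugate to it etale locally everywhere.
-/

set_option autoImplicit false
set_option linter.style.haveILetI false
set_option linter.unusedSectionVars false
set_option backward.isDefEq.respectTransparency.types false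

universe u

open CategoryTheory MonoidalCategory CartesianMonoidalCategory MonObj GrpObj AlgebraicGeometry Limits
open Groth.Agent.DiagRig

noncomputable section

namespace Groth.Agent.FamConj

variable {k : Type u} [Field k] {S : Scheme.{u}} {f : S ⟶ Spec (CommRingCat.of k)}
  {H G : Over (Spec (CommRingCat.of k))} [GrpObj H] [GrpObj G]

/-- The identification of a scheme over the field having a point of the base with the pushed forward one. -/
def ρ {Z : Over (Spec (CommRingCat.of k))} (x : Z.left ⟶ S) (hx : x ≫ f = Z.hom) :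
    Z ≅ (Over.map f).obj (Over.mk x) :=
  Over.isoMk (Iso.refl _) (by simpa using hx)

/-- A homomorphism over `S` as a family: its value at a point of `S`. -/
def ev (φ : Red.bc f H ⟶ Red.bc f G) {Z : Over (Spec (CommRingCat.of k))} (x : Z.left ⟶ S)
    (hx : x ≫ f = Z.hom) (h : Z ⟶ H) : Z ⟶ G :=
  (ρ x hx).hom ≫ bcTr f (bcUn f ((ρ x hx).inv ≫ h) ≫ φ)

theorem ev_mul (φ : Red.bc f H ⟶ Red.bc f G) [IsMonHom φ] {Z : Over (Spec (CommRingCat.of k))} (x : Z.left ⟶ S)
    (hx : x ≫ f = Z.hom) (h h' : Z ⟶ H) : ev φ x hx (h * h') = ev φ x hx h * ev φ x hx h' := by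
  simp only [ev, MonObj.comp_mul, bcUn_mul, MonObj.mul_comp, bcTr_mul]

theorem hx_comp {Z Z' : Over (Spec (CommRingCat.of k))} {x : Z.left ⟶ S} (hx : x ≫ f = Z.hom) (q : Z' ⟶ Z) :
    (q.left ≫ x) ≫ f = Z'.hom := by
  rw [Category.assoc, hx, Over.w q]

theorem ev_comp (φ : Red.bc f H ⟶ Red.bc f G) {Z Z' : Over (Spec (CommRingCat.of k))} (x : Z.left ⟶ S)
    (hx : x ≫ f = Z.hom) (q : Z' ⟶ Z) (h : Z ⟶ H) :
    ev φ (q.left ≫ x) (hx_comp hx q) (q ≫ h) = q ≫ ev φ x hx h := by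
  let q₀ : Over.mk (q.left ≫ x) ⟶ Over.mk x := Over.homMk q.left rfl
  have e1 : (ρ (q.left ≫ x) (hx_comp hx q)).inv ≫ q ≫ h = (Over.map f).map q₀ ≫ (ρ x hx).inv ≫ h := by
    simp only [← Category.assoc]
    congr 1
  have e2 : (ρ (q.left ≫ x) (hx_comp hx q)).hom ≫ (Over.map f).map q₀ = q ≫ (ρ x hx).hom := by
    ext1
    simp [ρ, q₀]
  simp only [ev]
  rw [e1, show bcUn f ((Over.map f).map q₀ ≫ (ρ x hx).inv ≫ h) = q₀ ≫ bcUn f ((ρ x hx).inv ≫ h) from
    (Over.mapPullbackAdj f).homEquiv_naturality_left _ _, Category.assoc, bcTr_comp, reassoc_of% e2]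

theorem ev_congr (φ : Red.bc f H ⟶ Red.bc f G) {Z : Over (Spec (CommRingCat.of k))} {x x' : Z.left ⟶ S}
    (h : x = x') (hx : x ≫ f = Z.hom) (hx' : x' ≫ f = Z.hom) (z : Z ⟶ H) : ev φ x hx z = ev φ x' hx' z := by
  subst h
  rfl

variable (φ : Red.bc f H ⟶ Red.bc f G) (lam : H ⟶ G)

/-- `g` conjugates the constant family to the value of `φ` at `x`. -/
def ConjL {Z : Over (Spec (CommRingCat.of k))} (x : Z.left ⟶ S) (hx : x ≫ f = Z.hom) (g : Z ⟶ G) : Prop :=
  ∀ (Z' : Over (Spec (CommRingCat.of k))) (q : Z' ⟶ Z) (h : Z' ⟶ H),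
    (q ≫ g) * (h ≫ lam) * (q ≫ g)⁻¹ = ev φ (q.left ≫ x) (hx_comp hx q) h

/-- `g` conjugates the value of `φ` at `x₁` to the value at `x₂`. -/
def Conj₂ {Z : Over (Spec (CommRingCat.of k))} (x₁ x₂ : Z.left ⟶ S) (h₁ : x₁ ≫ f = Z.hom)
    (h₂ : x₂ ≫ f = Z.hom) (g : Z ⟶ G) : Prop :=
  ∀ (Z' : Over (Spec (CommRingCat.of k))) (q : Z' ⟶ Z) (h : Z' ⟶ H),
    (q ≫ g) * ev φ (q.left ≫ x₁) (hx_comp h₁ q) h * (q ≫ g)⁻¹ = ev φ (q.left ≫ x₂) (hx_comp h₂ q) h

theorem conjL_of_conj₂ {Z : Over (Spec (CommRingCat.of k))} {x₁ x₂ : Z.left ⟶ S} {h₁ : x₁ ≫ f = Z.hom}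
    {h₂ : x₂ ≫ f = Z.hom} {g₁ g₂ : Z ⟶ G} (hc : Conj₂ φ x₁ x₂ h₁ h₂ g₁) (hl : ConjL φ lam x₁ h₁ g₂) :
    ConjL φ lam x₂ h₂ (g₁ * g₂) := fun Z' q h => by
  rw [← hc Z' q h, ← hl Z' q h, MonObj.comp_mul, _root_.mul_inv_rev]
  simp only [_root_.mul_assoc]

theorem transports_iff_conjL {X : Over S} (g : X ⟶ Red.bc f G) :
    Transports ((Over.pullback f).map lam) φ g ↔
      ConjL φ lam (Z := (Over.map f).obj X) X.hom rfl (bcTr f g) := by
  constructor
  · intro hg Z' q h
    let X' : Over S := Over.mk (q.left ≫ X.hom)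
    let q₀ : X' ⟶ X := Over.homMk q.left rfl
    let e := ρ (q.left ≫ X.hom) (hx_comp (f := f) (Z := (Over.map f).obj X) rfl q)
    have h1 := congrArg (fun y => e.hom ≫ bcTr f y) (hg X' q₀ (bcUn f (e.inv ≫ h)))
    simp only [bcTr_mul, bcTr_inv] at h1
    rw [bcTr_map, bcTr_bcUn, bcTr_comp f q₀] at h1
    simp only [MonObj.comp_mul, GrpObj.comp_inv, Category.assoc, Iso.hom_inv_id_assoc] at h1
    have e2 : e.hom ≫ (Over.map f).map q₀ = q := by
      ext1
      simp [e, ρ, q₀]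
    rw [reassoc_of% e2] at h1
    exact h1
  · intro hg X' x h
    refine bcTr_injective f ?_
    have h1 := hg _ ((Over.map f).map x) (bcTr f h)
    have h3 : ev φ (Z := (Over.map f).obj X') X'.hom rfl (bcTr f h) = bcTr f (h ≫ φ) := by
      have e4 : (ρ (Z := (Over.map f).obj X') (f := f) X'.hom rfl).hom = 𝟙 _ := by
        ext1
        rfl
      have e5 : (ρ (Z := (Over.map f).obj X') (f := f) X'.hom rfl).inv = 𝟙 _ := by
        ext1
        rfl
      simp only [ev, e4, e5]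
      erw [Category.id_comp, Category.id_comp, bcUn_bcTr]
    rw [bcTr_mul, bcTr_mul, bcTr_inv, bcTr_comp, bcTr_map, h1, ← h3]
    exact ev_congr φ (Over.w x) _ _ _

section Twist

variable {P : Scheme.{u}} {c : P ⟶ Spec (CommRingCat.of k)} (a : P ⟶ S) (ha : a ≫ f = c)

theorem ha_map (a : P ⟶ S) (ha : a ≫ f = c) {X : Over P} : (X.hom ≫ a) ≫ f = ((Over.map c).obj X).hom := by
  rw [Category.assoc, ha]
  rfl

/-- The pullback of the family along `a`, on points. -/
def twPt {X : Over P} (y : X ⟶ Red.bc c H) : X ⟶ Red.bc c G :=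
  bcUn c (ev φ (Z := (Over.map c).obj X) (X.hom ≫ a) (ha_map a ha) (bcTr c y))

/-- The pullback of the family along `a`. -/
def twist : Red.bc c H ⟶ Red.bc c G := twPt φ a ha (𝟙 _)

theorem bcTr_comp_twist {X : Over P} (y : X ⟶ Red.bc c H) :
    bcTr c (y ≫ twist φ a ha) = ev φ (Z := (Over.map c).obj X) (X.hom ≫ a) (ha_map a ha) (bcTr c y) := by
  rw [twist, twPt, bcTr_comp, bcTr_bcUn, ← ev_comp]
  have e : bcTr c y = (Over.map c).map y ≫ bcTr c (𝟙 _) := by rw [← bcTr_comp, Category.comp_id]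
  rw [← e]
  refine ev_congr φ ?_ _ _ _
  show y.left ≫ (Red.bc c H).hom ≫ a = _
  rw [← Category.assoc, Over.w y]

theorem isMonHom_twist [IsMonHom φ] : IsMonHom (twist φ a ha) :=
  isMonHom_of_pts _ fun Y x y => bcTr_injective c (by
    rw [bcTr_comp_twist, bcTr_mul, ev_mul, bcTr_mul, bcTr_comp_twist, bcTr_comp_twist])

theorem conj₂_of_transports (b : P ⟶ S) (hb : b ≫ f = c) {X : Over P} (g : X ⟶ Red.bc c G)
    (hg : Transports (twist φ a ha) (twist φ b hb) g) :
    Conj₂ φ (Z := (Over.map c).obj X) (X.hom ≫ a) (X.hom ≫ b) (ha_map a ha) (ha_map b hb) (bcTr c g) := by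
  intro Z' q h
  let X' : Over P := Over.mk (q.left ≫ X.hom)
  let q₀ : X' ⟶ X := Over.homMk q.left rfl
  let e : Z' ≅ (Over.map c).obj X' := Over.isoMk (Iso.refl _) (by
    show 𝟙 _ ≫ (q.left ≫ X.hom) ≫ c = Z'.hom
    rw [Category.id_comp, Category.assoc]
    exact Over.w q)
  have h1 := congrArg (fun y => e.hom ≫ bcTr c y) (hg X' q₀ (bcUn c (e.inv ≫ h)))
  simp only [bcTr_mul, bcTr_inv] at h1
  rw [bcTr_comp_twist, bcTr_comp_twist, bcTr_bcUn, bcTr_comp c q₀] at h1
  simp only [MonObj.comp_mul, GrpObj.comp_inv] at h1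
  have e2 : e.hom ≫ (Over.map c).map q₀ = q := by
    ext1
    simp [e, q₀]
  rw [reassoc_of% e2, ← ev_comp, ← ev_comp, Iso.hom_inv_id_assoc] at h1
  refine Eq.trans ?_ (h1.trans (ev_congr φ ?_ _ _ _))
  · exact congrArg (fun y => (q ≫ bcTr c g) * y * (q ≫ bcTr c g)⁻¹) (ev_congr φ (by simp [e, X', ρ]) _ _ _)
  · simp [e, X']

end Twist

/-- The transporter from the constant family is surjective over a connected base. -/
theorem exists_transporter_surjective [ConnectedSpace S] [LocallyOfFiniteType f]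
    (hH : SGA3x.IsMultTypeFT H) [IsAffine G.left] [Smooth G.hom] [IsMonHom lam] [IsMonHom φ]
    (s : Spec (CommRingCat.of k) ⟶ S) (g₀ : Over.mk s ⟶ Red.bc f G)
    (h₀ : Transports ((Over.pullback f).map lam) φ g₀) :
    ∃ (T : Over S) (j : T ⟶ Red.bc f G), Smooth T.hom ∧ Function.Surjective T.hom.base ∧
      Transports ((Over.pullback f).map lam) φ j := by
  haveI : IsMonHom ((Over.pullback f).map lam) := isMonHom_bcMap f lam
  haveI : IsAffineHom G.hom := isAffineHom_of_isAffine _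
  haveI : IsAffineHom (Red.bc f G).hom := MorphismProperty.pullback_snd (P := @IsAffineHom) _ _ inferInstance
  haveI : Smooth (Red.bc f G).hom := inferInstanceAs (Smooth (pullback.snd G.hom f))
  obtain ⟨T, j, hj, hsm, hiff⟩ := exists_transporter ((Over.pullback f).map lam) φ
    (splitFpqc_of_multTypeFT _ (isMultTypeFT_bc f hH))
  haveI : Smooth T.hom := hsm inferInstance
  refine ⟨T, j, inferInstance, ?_, (hiff T j).mp ⟨𝟙 T, Category.id_comp j⟩⟩
  have hopen : IsOpen (Set.range T.hom.base) := T.hom.isOpenMap.isOpen_range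
  have hne : (Set.range T.hom.base).Nonempty := by
    obtain ⟨t, ht⟩ := (hiff _ g₀).mpr h₀
    exact ⟨_, t.left (show ↥(Spec (CommRingCat.of k)) from default), rfl⟩
  have hclosed : IsClosed (Set.range T.hom.base) := by
    refine isOpen_compl_iff.mp (isOpen_iff_forall_mem_open.2 fun s' hs' => ?_)
    let σ := S.fromSpecResidueField s'
    let P := pullback f (σ ≫ f)
    let a : P ⟶ S := pullback.fst f (σ ≫ f)
    let b : P ⟶ S := pullback.snd f (σ ≫ f) ≫ σ
    have hab : b ≫ f = a ≫ f := by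
      simp only [a, b, Category.assoc]
      exact pullback.condition.symm
    have hopA : IsOpenMap a.base := Scheme.Hom.isOpenMap a
    haveI : IsMonHom (twist φ a (rfl : a ≫ f = a ≫ f)) := isMonHom_twist φ a rfl
    haveI : IsMonHom (twist φ b hab) := isMonHom_twist φ b hab
    haveI : IsAffineHom (Red.bc (a ≫ f) G).hom := MorphismProperty.pullback_snd (P := @IsAffineHom) _ _ inferInstance
    haveI : Smooth (Red.bc (a ≫ f) G).hom := inferInstanceAs (Smooth (pullback.snd G.hom _))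
    obtain ⟨T₁, j₁, -, hsm₁, hiff₁⟩ := exists_transporter (twist φ a (rfl : a ≫ f = a ≫ f)) (twist φ b hab)
      (splitFpqc_of_multTypeFT _ (isMultTypeFT_bc (a ≫ f) hH))
    haveI : Smooth T₁.hom := hsm₁ inferInstance
    let d : Spec (S.residueField s') ⟶ P := pullback.lift σ (𝟙 _) (Category.id_comp _).symm
    have hd : d ≫ a = d ≫ b := by
      simp only [d, a, b]
      rw [pullback.lift_fst, pullback.lift_snd_assoc, Category.id_comp]
    have hg : Transports (twist φ a (rfl : a ≫ f = a ≫ f)) (twist φ b hab) (1 : Over.mk d ⟶ Red.bc (a ≫ f) G) := by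
      intro X' x h
      rw [MonObj.comp_one, _root_.one_mul, inv_one, _root_.mul_one]
      refine bcTr_injective (a ≫ f) ?_
      rw [bcTr_comp_twist, bcTr_comp_twist]
      refine ev_congr φ ?_ _ _ _
      rw [← Over.w x, Category.assoc, Category.assoc]
      exact congrArg (x.left ≫ ·) hd
    obtain ⟨t₁, -⟩ := (hiff₁ _ _).mpr hg
    refine ⟨a.base '' Set.range T₁.hom.base, ?_, hopA _ T₁.hom.isOpenMap.isOpen_range, ?_⟩
    · rintro y ⟨p, ⟨t, rfl⟩, rfl⟩ ⟨t', ht'⟩
      obtain ⟨z, hz₁, hz₂⟩ := Scheme.Pullback.exists_preimage_pullback (f := T₁.hom ≫ a) (g := T.hom) t t'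
        (by rw [Scheme.Hom.comp_apply]; exact ht'.symm)
      let W := pullback (T₁.hom ≫ a) T.hom
      let w₁ : Spec (W.residueField z) ⟶ T₁.left := W.fromSpecResidueField z ≫ pullback.fst _ _
      let w : Spec (W.residueField z) ⟶ T.left := W.fromSpecResidueField z ≫ pullback.snd _ _
      have hw : w ≫ T.hom = w₁ ≫ T₁.hom ≫ a := by
        simp only [w, w₁, Category.assoc]
        rw [← pullback.condition]
      let X₁ : Over P := Over.mk (w₁ ≫ T₁.hom)
      let X : Over S := Over.mk (w ≫ T.hom)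
      let k₁ : X₁ ⟶ T₁ := Over.homMk w₁ rfl
      let k₀ : X ⟶ T := Over.homMk w rfl
      have hl := (transports_iff_conjL φ lam _).mp ((hiff X (k₀ ≫ j)).mp ⟨k₀, rfl⟩)
      have hc := conj₂_of_transports φ a rfl b hab _ ((hiff₁ X₁ (k₁ ≫ j₁)).mp ⟨k₁, rfl⟩)
      let Z : Over (Spec (CommRingCat.of k)) := (Over.map (a ≫ f)).obj X₁
      let i : Z ≅ (Over.map f).obj X := Over.isoMk (Iso.refl _) (by
        show 𝟙 _ ≫ (w ≫ T.hom) ≫ f = (w₁ ≫ T₁.hom) ≫ a ≫ f
        simp [hw])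
      have hl' : ConjL φ lam (Z := Z) (X₁.hom ≫ a) (ha_map a rfl) (i.hom ≫ bcTr f (k₀ ≫ j)) := by
        intro Z' q h
        have h1 := hl Z' (q ≫ i.hom) h
        rw [Category.assoc] at h1
        refine h1.trans (ev_congr φ ?_ _ _ _)
        show (q.left ≫ 𝟙 _) ≫ w ≫ T.hom = q.left ≫ (w₁ ≫ T₁.hom) ≫ a
        simp [hw]
      have hres := conjL_of_conj₂ φ lam hc hl'
      let X₂ : Over S := Over.mk (X₁.hom ≫ b)
      let i₂ : (Over.map f).obj X₂ ≅ Z := Over.isoMk (Iso.refl _) (by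
        show 𝟙 _ ≫ (w₁ ≫ T₁.hom) ≫ a ≫ f = ((w₁ ≫ T₁.hom) ≫ b) ≫ f
        rw [Category.id_comp, Category.assoc (w₁ ≫ T₁.hom) b, hab])
      let g₂ : X₂ ⟶ Red.bc f G := bcUn f (i₂.hom ≫ (bcTr (a ≫ f) (k₁ ≫ j₁) * (i.hom ≫ bcTr f (k₀ ≫ j))))
      obtain ⟨t₂, -⟩ := (hiff X₂ g₂).mpr ((transports_iff_conjL φ lam g₂).mpr fun Z' q h => by
        have h1 := hres Z' (q ≫ i₂.hom) h
        rw [Category.assoc] at h1
        rw [bcTr_bcUn]
        refine h1.trans (ev_congr φ ?_ _ _ _)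
        show (q.left ≫ 𝟙 _) ≫ _ = _
        rw [Category.comp_id]
        rfl)
      let o : ↥(Spec (W.residueField z)) := default
      refine hs' ⟨t₂.left o, ?_⟩
      have h2 := congrArg (fun m => m o) (Over.w t₂)
      simp only [Scheme.Hom.comp_apply] at h2
      refine h2.trans ?_
      show σ ((pullback.snd f (σ ≫ f)) (T₁.hom (w₁ o))) = s'
      exact Scheme.fromSpecResidueField_apply s' _
    · let o : ↥(Spec (S.residueField s')) := default
      refine ⟨d o, ⟨t₁.left o, ?_⟩, ?_⟩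
      · have h2 := congrArg (fun m => m o) (Over.w t₁)
        simp only [Scheme.Hom.comp_apply] at h2
        exact h2
      · show a (d o) = s'
        rw [← Scheme.Hom.comp_apply, show d ≫ a = σ from pullback.lift_fst _ _ _]
        exact Scheme.fromSpecResidueField_apply s' _
  exact Set.range_eq_univ.mp ((IsClopen.eq_univ ⟨hclosed, hopen⟩) hne)

/-- The conclusion over an etale cover. -/
theorem exists_etale_conj [ConnectedSpace S] [LocallyOfFiniteType f]
    (hH : SGA3x.IsMultTypeFT H) [IsAffine G.left] [Smooth G.hom] [IsMonHom lam] [IsMonHom φ]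
    (s : Spec (CommRingCat.of k) ⟶ S) (g₀ : Over.mk s ⟶ Red.bc f G)
    (h₀ : fst (Red.bc f H) (Over.mk s) ≫ φ =
      (snd _ _ ≫ g₀) * (fst _ _ ≫ (Over.pullback f).map lam) * (snd _ _ ≫ g₀)⁻¹) :
    ∃ (S' : Over S), Etale S'.hom ∧ Surjective S'.hom ∧ ∃ g : S' ⟶ Red.bc f G,
      fst (Red.bc f H) S' ≫ φ =
        (snd _ _ ≫ g) * (fst _ _ ≫ (Over.pullback f).map lam) * (snd _ _ ≫ g)⁻¹ := by
  have h₀' : Transports ((Over.pullback f).map lam) φ g₀ := by
    intro X' x h
    have h1 := congrArg (lift h x ≫ ·) h₀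
    simp only [MonObj.comp_mul, GrpObj.comp_inv, lift_fst_assoc, lift_snd_assoc] at h1
    exact h1.symm
  obtain ⟨T, j, hT, hsurj, hj⟩ := exists_transporter_surjective φ lam hH s g₀ h₀'
  choose t ht using hsurj
  choose S₁ π s₁ hπ hs₁ m hm using fun y : S => AlgSpCov.exists_etale_section T.hom (t y)
  let p : (∐ S₁) ⟶ S := Sigma.desc π
  haveI : Etale p := (IsZariskiLocalAtSource.iff_of_openCover (P := @Etale) (sigmaOpenCover S₁)).mpr fun y => by
    show Etale (Sigma.ι S₁ y ≫ Sigma.desc π)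
    rw [Sigma.ι_desc]
    exact hπ y
  haveI : Surjective p := ⟨fun y => ⟨Sigma.ι S₁ y (s₁ y), by
    rw [← Scheme.Hom.comp_apply, show Sigma.ι S₁ y ≫ p = π y from Sigma.ι_desc _ _, hs₁, ht]⟩⟩
  let q : Over.mk p ⟶ T := Over.homMk (Sigma.desc m) (Sigma.hom_ext _ _ fun y => by
    show Sigma.ι S₁ y ≫ Sigma.desc m ≫ T.hom = Sigma.ι S₁ y ≫ Sigma.desc π
    rw [Sigma.ι_desc_assoc, Sigma.ι_desc, hm])
  refine ⟨Over.mk p, inferInstanceAs (Etale p), inferInstanceAs (Surjective p), q ≫ j, ?_⟩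
  have h1 := hj _ (snd (Red.bc f H) (Over.mk p) ≫ q) (fst _ _)
  simp only [Category.assoc] at h1
  exact h1.symm

end Groth.Agent.FamConj

end
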